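import Mathlib

/-!
# Automorphisms and subdirect subgroups of powers of a nonabelian simple group
-/

set_option autoImplicit false

namespace Cfsg.Agent.Lib.ONanScott

variable {S : Type*} [Group S] [IsSimpleGroup S] {ι : Type*} [Fintype ι] [DecidableEq ι]

theorem map_normal_eq_bot_or_top {A : Type*} [Group A] (f : A →* S) (hf : Function.Surjective f)
    (M : Subgroup A) (hM : M.Normal) : M.map f = ⊥ ∨ M.map f = ⊤ :=
  (hM.map f hf).eq_bot_or_eq_top

/-- An automorphism of `S ^ ι` permutes the coordinates. -/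
theorem exists_perm_of_mulEquiv (hS : ∃ a b : S, a * b ≠ b * a) (A : (ι → S) ≃* (ι → S)) :
    ∃ (τ : Equiv.Perm ι) (f : ι → S ≃* S), ∀ x l, A x l = f l (x (τ l)) := by
  classical
  obtain ⟨a, b, hab⟩ := hS
  have key : ∀ l : ι, ∃ (i : ι) (f : S ≃* S), ∀ x, A x l = f (x i) := by
    intro l
    let φ : (ι → S) →* S := (Pi.evalMonoidHom (fun _ : ι => S) l).comp A.toMonoidHom
    have hφ : Function.Surjective φ := fun s => by
      refine ⟨A.symm (Pi.mulSingle l s), ?_⟩
      simp [φ]
    let ψ : ι → S →* S := fun i => φ.comp (MonoidHom.mulSingle (fun _ : ι => S) i)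
    have hexp : ∀ x, φ x ∈ ⨆ i, (ψ i).range := by
      intro x
      have hx : x ∈ ⨆ i, (MonoidHom.mulSingle (fun _ : ι => S) i).range :=
        Subgroup.pi_mem_of_mulSingle_mem x fun i =>
          le_iSup (fun i => (MonoidHom.mulSingle (fun _ : ι => S) i).range) i ⟨x i, rfl⟩
      have := Subgroup.mem_map_of_mem φ hx
      rw [Subgroup.map_iSup] at this
      simpa only [MonoidHom.map_range] using this
    obtain ⟨i, hi⟩ : ∃ i, ψ i ≠ 1 := by
      by_contra! h
      have h1 : ∀ s : S, s = 1 := fun s => by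
        obtain ⟨x, rfl⟩ := hφ s
        have := hexp x
        simp only [h, MonoidHom.range_one, iSup_bot, Subgroup.mem_bot] at this
        exact this
      exact hab (by rw [h1 a, h1 b])
    have hnorm : (ψ i).range.Normal := by
      constructor
      rintro _ ⟨s, rfl⟩ t
      obtain ⟨x, rfl⟩ := hφ t
      refine ⟨x i * s * (x i)⁻¹, ?_⟩
      change φ (Pi.mulSingle i _) = φ x * φ (Pi.mulSingle i s) * (φ x)⁻¹
      rw [← map_mul, ← map_inv, ← map_mul]
      congr 1
      funext j
      by_cases hj : j = i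
      · subst hj; simp
      · simp [Pi.mulSingle_eq_of_ne hj]
    have htop : (ψ i).range = ⊤ := hnorm.eq_bot_or_eq_top.resolve_left fun h => hi (by
      ext s
      have : ψ i s ∈ (⊥ : Subgroup S) := h ▸ ⟨s, rfl⟩
      simpa using this)
    have hother : ∀ j, j ≠ i → ψ j = 1 := by
      intro j hj
      ext s
      have hc : ψ j s ∈ Subgroup.center S := by
        refine Subgroup.mem_center_iff.2 fun t => ?_
        obtain ⟨t, rfl⟩ : t ∈ (ψ i).range := htop ▸ Subgroup.mem_top t
        change φ (Pi.mulSingle i t) * φ (Pi.mulSingle j s) = φ (Pi.mulSingle j s) * φ (Pi.mulSingle i t)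
        rw [← map_mul, ← map_mul]
        congr 1
        funext l'
        rcases eq_or_ne l' i with rfl | hl
        · simp [Pi.mulSingle_eq_of_ne hj.symm]
        · simp [Pi.mulSingle_eq_of_ne hl]
      rcases (inferInstance : (Subgroup.center S).Normal).eq_bot_or_eq_top with h | h
      · simpa [h] using hc
      · exact absurd (Subgroup.mem_center_iff.1 (h ▸ Subgroup.mem_top b : b ∈ Subgroup.center S) a) hab
    have hinj : Function.Injective (ψ i) := by
      rw [← MonoidHom.ker_eq_bot_iff]
      refine (inferInstance : (ψ i).ker.Normal).eq_bot_or_eq_top.resolve_right fun h => hi ?_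
      exact MonoidHom.ext fun s => MonoidHom.mem_ker.1 (h ▸ Subgroup.mem_top s)
    refine ⟨i, MulEquiv.ofBijective (ψ i) ⟨hinj, MonoidHom.range_eq_top.1 htop⟩, fun x => ?_⟩
    change φ x = φ (Pi.mulSingle i (x i))
    have hsplit : x = Pi.mulSingle i (x i) * Function.update x i 1 := by
      funext j
      by_cases hj : j = i
      · subst hj; simp
      · simp [Pi.mulSingle_eq_of_ne hj, Function.update_of_ne hj]
    conv_lhs => rw [hsplit, map_mul]
    suffices hy : φ (Function.update x i 1) = 1 by rw [hy, mul_one]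
    have hker : Function.update x i 1 ∈ φ.ker := Subgroup.pi_mem_of_mulSingle_mem _ fun j => by
      rcases eq_or_ne j i with rfl | hj
      · simp
      · rw [MonoidHom.mem_ker]
        exact DFunLike.congr_fun (hother j hj) _
    exact hker
  choose τ f hf using key
  have hinj : Function.Injective τ := by
    intro l l' e
    by_contra hne
    have h := hf l' (A.symm (Pi.mulSingle l a))
    have h' := hf l (A.symm (Pi.mulSingle l a))
    rw [MulEquiv.apply_symm_apply] at h h'
    rw [Pi.mulSingle_eq_of_ne (Ne.symm hne), eq_comm, map_eq_one_iff _ (f l').injective, ← e] at h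
    rw [h, map_one, Pi.mulSingle_eq_same] at h'
    exact hab (by rw [h', one_mul, mul_one])
  exact ⟨Equiv.ofBijective τ (Finite.injective_iff_bijective.1 hinj), f, fun x l => hf l x⟩

/-- In a subdirect subgroup, a coordinate is trivial on the common kernel of other coordinates only
if it has the kernel of one of them. -/
theorem exists_mem_of_ne_ker (hS : ∃ a b : S, a * b ≠ b * a) (D : Subgroup (ι → S))
    (hD : ∀ i (s : S), ∃ d ∈ D, d i = s) (j : ι) :
    ∀ F : Finset ι, (∀ i ∈ F, ∃ d ∈ D, d i = 1 ∧ d j ≠ 1) →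
      ∀ s : S, ∃ d ∈ D, (∀ i ∈ F, d i = 1) ∧ d j = s := by
  classical
  intro F
  induction F using Finset.induction_on with
  | empty =>
    intro _ s
    obtain ⟨d, hd, e⟩ := hD j s
    exact ⟨d, hd, by simp, e⟩
  | insert i F hiF ih =>
    intro h s
    -- the normal subgroup of admissible values at `j`
    let M : Subgroup S :=
      (D ⊓ ⨅ l ∈ insert i F, (Pi.evalMonoidHom (fun _ : ι => S) l).ker).map
        (Pi.evalMonoidHom (fun _ : ι => S) j)
    have hM : ∀ t, t ∈ M ↔ ∃ d ∈ D, (∀ l ∈ insert i F, d l = 1) ∧ d j = t := fun t => by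
      simp only [M, Subgroup.mem_map, Subgroup.mem_inf, Subgroup.mem_iInf, MonoidHom.mem_ker,
        Pi.evalMonoidHom_apply]
      exact ⟨fun ⟨d, ⟨h1, h2⟩, e⟩ => ⟨d, h1, h2, e⟩, fun ⟨d, h1, h2, e⟩ => ⟨d, ⟨h1, h2⟩, e⟩⟩
    have hMn : M.Normal := by
      constructor
      intro t ht g
      rw [hM] at ht ⊢
      obtain ⟨d, hd, hd1, rfl⟩ := ht
      obtain ⟨c, hc, rfl⟩ := hD j g
      exact ⟨c * d * c⁻¹, D.mul_mem (D.mul_mem hc hd) (D.inv_mem hc), fun l hl => by
        simp [hd1 l hl], rfl⟩
    rcases hMn.eq_bot_or_eq_top with hb | ht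
    · exfalso
      obtain ⟨u, hu, hui, huj⟩ := h i (Finset.mem_insert_self i F)
      have hF := ih fun l hl => h l (Finset.mem_insert_of_mem hl)
      -- `u j` is central
      have hcen : u j ∈ Subgroup.center S := by
        refine Subgroup.mem_center_iff.2 fun t => ?_
        obtain ⟨d, hd, hd1, rfl⟩ := hF t
        have hmem : d j * u j * (d j)⁻¹ * (u j)⁻¹ ∈ M := by
          rw [hM]
          refine ⟨d * u * d⁻¹ * u⁻¹,
            D.mul_mem (D.mul_mem (D.mul_mem hd hu) (D.inv_mem hd)) (D.inv_mem hu), fun l hl => ?_, rfl⟩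
          rcases Finset.mem_insert.1 hl with rfl | hl
          · simp [hui]
          · simp [hd1 l hl]
        rw [hb, Subgroup.mem_bot] at hmem
        exact mul_inv_eq_iff_eq_mul.1 (mul_inv_eq_one.1 hmem)
      obtain ⟨a, b, hab⟩ := hS
      rcases (inferInstance : (Subgroup.center S).Normal).eq_bot_or_eq_top with h' | h'
      · exact huj (by simpa [h'] using hcen)
      · exact hab (Subgroup.mem_center_iff.1 (h' ▸ Subgroup.mem_top b : b ∈ Subgroup.center S) a)
    · exact (hM s).1 (ht ▸ Subgroup.mem_top s)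

/-- The coordinates with the same kernel on a subdirect subgroup are linked by isomorphisms. -/
theorem exists_link (D : Subgroup (ι → S)) (hD : ∀ i (s : S), ∃ d ∈ D, d i = s) (i j : ι)
    (hij : ∀ d ∈ D, d i = 1 ↔ d j = 1) : ∃ φ : S ≃* S, ∀ d ∈ D, d j = φ (d i) := by
  let p : ι → D →* S := fun l => (Pi.evalMonoidHom (fun _ : ι => S) l).comp D.subtype
  have hp : ∀ l, Function.Surjective (p l) := fun l s => by
    obtain ⟨d, hd, e⟩ := hD l s
    exact ⟨⟨d, hd⟩, e⟩
  have hker : (p i).ker = (p j).ker := by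
    ext d
    simp only [MonoidHom.mem_ker]
    exact hij d d.2
  refine ⟨(QuotientGroup.quotientKerEquivOfSurjective (p i) (hp i)).symm.trans
    ((QuotientGroup.quotientMulEquivOfEq hker).trans
      (QuotientGroup.quotientKerEquivOfSurjective (p j) (hp j))), fun d hd => ?_⟩
  have h : (QuotientGroup.quotientKerEquivOfSurjective (p i) (hp i)).symm (d i) =
      ((⟨d, hd⟩ : D) : D ⧸ (p i).ker) := by
    rw [MulEquiv.symm_apply_eq]
    rfl
  rw [MulEquiv.trans_apply, MulEquiv.trans_apply, h]
  rfl

end Cfsg.Agent.Lib.ONanScott
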